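import Mathlib

/-!
The group (Z/2^n)^2 : 2^2, with one involution inverting the base and the other exchanging the two factors.
-/

set_option autoImplicit false

namespace Cfsg.Agent.Small.GTwoSylow

/-- An element h^a k^b u^i w^j. -/
@[ext] structure Mo (n : ℕ) where
  /-- first coordinate -/
  a : ZMod (2 ^ n)
  /-- second coordinate -/
  b : ZMod (2 ^ n)
  /-- exponent of the inverting involution -/
  i : Bool
  /-- exponent of the exchanging involution -/
  j : Bool

namespace Mo

variable {n : ℕ}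

/-- Conditional sign. -/
def sg {A : Type*} [AddGroup A] (i : Bool) (x : A) : A := bif i then -x else x

instance : Mul (Mo n) := ⟨fun p q => ⟨p.a + sg p.i (bif p.j then q.b else q.a),
  p.b + sg p.i (bif p.j then q.a else q.b), xor p.i q.i, xor p.j q.j⟩⟩

instance : One (Mo n) := ⟨⟨0, 0, false, false⟩⟩

instance : Inv (Mo n) := ⟨fun p => ⟨-sg p.i (bif p.j then p.b else p.a),
  -sg p.i (bif p.j then p.a else p.b), p.i, p.j⟩⟩

theorem mul_def (p q : Mo n) : p * q = ⟨p.a + sg p.i (bif p.j then q.b else q.a),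
  p.b + sg p.i (bif p.j then q.a else q.b), xor p.i q.i, xor p.j q.j⟩ := rfl

theorem one_def : (1 : Mo n) = ⟨0, 0, false, false⟩ := rfl

theorem inv_def (p : Mo n) : p⁻¹ = ⟨-sg p.i (bif p.j then p.b else p.a),
  -sg p.i (bif p.j then p.a else p.b), p.i, p.j⟩ := rfl

instance : Group (Mo n) := Group.ofLeftAxioms
  (fun p q r => by
    obtain ⟨a, b, i, j⟩ := p
    obtain ⟨c, d, k, l⟩ := q
    obtain ⟨e, f, m, o⟩ := r
    cases i <;> cases j <;> cases k <;> cases l <;> ext <;> simp [mul_def, sg] <;> abel)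
  (fun p => by ext <;> simp [mul_def, one_def, sg])
  (fun p => by
    obtain ⟨a, b, i, j⟩ := p
    cases i <;> cases j <;> ext <;> simp [mul_def, one_def, inv_def, sg])

instance : Finite (Mo n) :=
  haveI : NeZero (2 ^ n) := ⟨pow_ne_zero _ two_ne_zero⟩
  Finite.of_injective (fun p : Mo n => (p.a, p.b, p.i, p.j)) (fun p q h => by
    simp only [Prod.mk.injEq] at h
    exact Mo.ext h.1 h.2.1 h.2.2.1 h.2.2.2)

theorem card_mo : Nat.card (Mo n) = 2 ^ (2 * n + 2) := by
  haveI : NeZero (2 ^ n) := ⟨pow_ne_zero _ two_ne_zero⟩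
  rw [Nat.card_congr (⟨fun p => (p.a, p.b, p.i, p.j), fun q => ⟨q.1, q.2.1, q.2.2.1, q.2.2.2⟩,
    fun _ => rfl, fun _ => rfl⟩ : Mo n ≃ ZMod (2 ^ n) × ZMod (2 ^ n) × Bool × Bool)]
  rw [Nat.card_prod, Nat.card_prod, Nat.card_prod, Nat.card_zmod, Nat.card_eq_fintype_card, Fintype.card_bool]
  ring

theorem isPGroup : IsPGroup 2 (Mo n) := IsPGroup.of_card (n := 2 * n + 2) card_mo

/-- Half the modulus. -/
def hf (n : ℕ) : ZMod (2 ^ n) := ((2 ^ (n - 1) : ℕ) : ZMod (2 ^ n))

/-- The central involution. -/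
def zz (n : ℕ) : Mo n := ⟨hf n, hf n, false, false⟩

theorem hf_add (hn : 1 ≤ n) : hf n + hf n = 0 := by
  rw [hf, ← Nat.cast_add, ← two_mul, ← pow_succ', Nat.sub_add_cancel hn, ZMod.natCast_self]

theorem hf_ne (hn : 1 ≤ n) : hf n ≠ 0 := by
  rw [hf, Ne, ZMod.natCast_eq_zero_iff]
  exact fun h => absurd (Nat.le_of_dvd (by positivity) h)
    (not_le.2 (Nat.pow_lt_pow_right one_lt_two (by omega)))

theorem neg_hf (hn : 1 ≤ n) : -hf n = hf n := neg_eq_of_add_eq_zero_right (hf_add hn)

/-- The elements of order at most two of the base ring. -/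
theorem half_cases (hn : 1 ≤ n) {x : ZMod (2 ^ n)} (h : x + x = 0) : x = 0 ∨ x = hf n := by
  haveI : NeZero (2 ^ n) := ⟨pow_ne_zero _ two_ne_zero⟩
  have h2 : 2 ^ n ∣ x.val + x.val := by
    rw [← ZMod.natCast_eq_zero_iff]
    push_cast
    simpa using h
  obtain ⟨c, hc⟩ : 2 ^ (n - 1) ∣ x.val := by
    have h3 : 2 * 2 ^ (n - 1) ∣ 2 * x.val := by
      rw [← pow_succ', Nat.sub_add_cancel hn, two_mul]; exact h2
    exact (Nat.mul_dvd_mul_iff_left two_pos).1 h3
  have hlt : x.val < 2 ^ (n - 1) * 2 := by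
    rw [← pow_succ, Nat.sub_add_cancel hn]; exact ZMod.val_lt x
  rw [hc] at hlt
  have hc2 : c < 2 := Nat.lt_of_mul_lt_mul_left hlt
  rw [← ZMod.natCast_zmod_val x, hc]
  interval_cases c
  · left; simp
  · right; rw [mul_one, hf]

/-- The centre. -/
theorem central_cases (hn : 2 ≤ n) {p : Mo n} (h : ∀ q, q * p = p * q) : p = 1 ∨ p = zz n := by
  obtain ⟨a, b, i, j⟩ := p
  have hu := h ⟨0, 0, true, false⟩
  have hk := h ⟨1, 0, false, false⟩
  have hw := h ⟨0, 0, false, true⟩
  simp only [mul_def, Mo.mk.injEq] at hu hk hw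
  have hone : (1 : ZMod (2 ^ n)) + 1 ≠ 0 := by
    rw [show (1 : ZMod (2 ^ n)) + 1 = ((2 : ℕ) : ZMod (2 ^ n)) by push_cast; norm_num, Ne, ZMod.natCast_eq_zero_iff]
    intro h2
    have := Nat.le_of_dvd two_pos h2
    have : 4 ≤ 2 ^ n := le_trans (by norm_num) (Nat.pow_le_pow_right two_pos hn)
    omega
  have h1 : (1 : ZMod (2 ^ n)) ≠ 0 := fun h0 => hone (by rw [h0, add_zero])
  have hi : i = false ∧ j = false := by
    cases i <;> cases j <;> simp [sg] at hk ⊢
    · exact h1 hk
    · exact hone (by linear_combination hk)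
    · exact h1 hk
  obtain ⟨rfl, rfl⟩ := hi
  simp [sg] at hu hw
  have ha : a + a = 0 := by linear_combination -hu.1
  obtain ⟨hab, -⟩ := hw
  subst hab
  rcases half_cases (by omega) ha with rfl | rfl
  · left; rfl
  · right; rfl

variable {G : Type*} [Group G]

/-- A power by a residue. -/
def pw (h : G) (a : ZMod (2 ^ n)) : G := h ^ a.val

theorem pw_add {h : G} (hh : h ^ 2 ^ n = 1) (a b : ZMod (2 ^ n)) : pw h (a + b) = pw h a * pw h b := by
  haveI : NeZero (2 ^ n) := ⟨pow_ne_zero _ two_ne_zero⟩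
  rw [pw, pw, pw, ← pow_add, ZMod.val_add]
  exact (pow_eq_pow_mod _ hh).symm

theorem pw_zero (h : G) : pw h (0 : ZMod (2 ^ n)) = 1 := by
  haveI : NeZero (2 ^ n) := ⟨pow_ne_zero _ two_ne_zero⟩
  rw [pw, ZMod.val_zero, pow_zero]

theorem pw_neg {h : G} (hh : h ^ 2 ^ n = 1) (a : ZMod (2 ^ n)) : pw h (-a) = (pw h a)⁻¹ := by
  rw [eq_inv_iff_mul_eq_one, ← pw_add hh, neg_add_cancel, pw_zero]

theorem pw_hf (h : G) (hn : 1 ≤ n) : pw h (hf n) = h ^ 2 ^ (n - 1) := by
  rw [pw, hf, ZMod.val_natCast, Nat.mod_eq_of_lt (Nat.pow_lt_pow_right one_lt_two (by omega))]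

/-- The relations of the model. -/
structure Rel (n : ℕ) (h k u w : G) : Prop where
  hh : h ^ 2 ^ n = 1
  kk : k ^ 2 ^ n = 1
  comm : Commute h k
  uu : u * u = 1
  ww : w * w = 1
  uw : Commute u w
  uh : u * h * u⁻¹ = h⁻¹
  uk : u * k * u⁻¹ = k⁻¹
  wh : w * h * w⁻¹ = k
  wk : w * k * w⁻¹ = h

variable {h k u w : G}

theorem Rel.conj_pw (R : Rel n h k u w) (i j : Bool) (a b : ZMod (2 ^ n)) :
    (bif i then u else 1) * (bif j then w else 1) * (pw h a * pw k b) =
      pw h (sg i (bif j then b else a)) * pw k (sg i (bif j then a else b)) *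
        ((bif i then u else 1) * (bif j then w else 1)) := by
  have cp : ∀ (c x : G) (a : ZMod (2 ^ n)), c * pw x a * c⁻¹ = pw (c * x * c⁻¹) a := fun c x a => by
    simp only [pw, conj_pow]
  have pinv : ∀ x : G, x ^ 2 ^ n = 1 → ∀ a : ZMod (2 ^ n), pw x⁻¹ a = pw x (-a) := fun x hx a => by
    rw [pw_neg hx]; simp only [pw, inv_pow]
  have hu : ∀ a b : ZMod (2 ^ n), u * (pw h a * pw k b) = pw h (-a) * pw k (-b) * u := fun a b => by
    rw [← mul_inv_eq_iff_eq_mul, show u * (pw h a * pw k b) * u⁻¹ = (u * pw h a * u⁻¹) * (u * pw k b * u⁻¹) by group,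
      cp, cp, R.uh, R.uk, pinv _ R.hh, pinv _ R.kk]
  have hw : ∀ a b : ZMod (2 ^ n), w * (pw h a * pw k b) = pw h b * pw k a * w := fun a b => by
    rw [← mul_inv_eq_iff_eq_mul, show w * (pw h a * pw k b) * w⁻¹ = (w * pw h a * w⁻¹) * (w * pw k b * w⁻¹) by group,
      cp, cp, R.wh, R.wk]
    exact ((R.comm.pow_pow _ _).symm).eq
  cases i <;> cases j <;> simp only [cond_true, cond_false, sg, one_mul, mul_one]
  · exact hw a b
  · exact hu a b
  · rw [mul_assoc, hw, ← mul_assoc, hu, mul_assoc]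

/-- The homomorphism of a family satisfying the relations. -/
def Rel.hom (R : Rel n h k u w) : Mo n →* G where
  toFun p := pw h p.a * pw k p.b * ((bif p.i then u else 1) * (bif p.j then w else 1))
  map_one' := by simp [one_def, pw_zero]
  map_mul' p q := by
    have hs : ∀ i j k' l : Bool, ((bif i then u else 1) * (bif j then w else 1)) *
        ((bif k' then u else 1) * (bif l then w else 1)) =
          (bif xor i k' then u else 1) * (bif xor j l then w else 1) := by
      intro i j k' l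
      have e1 := R.uw.eq
      cases i <;> cases j <;> cases k' <;> cases l <;>
        simp [R.uu, R.ww, ← mul_assoc] <;> simp [mul_assoc, R.ww, R.uu, ← e1] <;>
        simp [← mul_assoc, R.uu, R.ww, ← e1]
    obtain ⟨a, b, i, j⟩ := p
    obtain ⟨c, d, k', l⟩ := q
    simp only [mul_def]
    rw [pw_add R.hh, pw_add R.kk, ← hs]
    have e := R.conj_pw i j c d
    calc _ = pw h a * (pw h (sg i (bif j then d else c)) * pw k b) * pw k (sg i (bif j then c else d)) *
          ((bif i then u else 1) * (bif j then w else 1) * ((bif k' then u else 1) * (bif l then w else 1))) := by group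
      _ = pw h a * (pw k b * pw h (sg i (bif j then d else c))) * pw k (sg i (bif j then c else d)) *
          ((bif i then u else 1) * (bif j then w else 1) * ((bif k' then u else 1) * (bif l then w else 1))) := by
        rw [show pw h (sg i (bif j then d else c)) * pw k b = pw k b * pw h (sg i (bif j then d else c)) from
          (R.comm.pow_pow _ _).eq]
      _ = pw h a * pw k b * (pw h (sg i (bif j then d else c)) * pw k (sg i (bif j then c else d)) *
          ((bif i then u else 1) * (bif j then w else 1))) * ((bif k' then u else 1) * (bif l then w else 1)) := by group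
      _ = _ := by rw [← e]; group

theorem Rel.hom_zz (R : Rel n h k u w) (hn : 1 ≤ n) : R.hom (zz n) = h ^ 2 ^ (n - 1) * k ^ 2 ^ (n - 1) := by
  show pw h (hf n) * pw k (hf n) * ((1 : G) * 1) = _
  rw [pw_hf h hn, pw_hf k hn, one_mul, mul_one]

/-- The homomorphism is injective once the central involution survives. -/
theorem Rel.hom_injective (R : Rel n h k u w) (hn : 2 ≤ n) (hz : h ^ 2 ^ (n - 1) * k ^ 2 ^ (n - 1) ≠ 1) :
    Function.Injective R.hom := by
  haveI : Fact (Nat.Prime 2) := ⟨Nat.prime_two⟩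
  rw [← MonoidHom.ker_eq_bot_iff]
  by_contra hne
  obtain ⟨m, hm⟩ := IsPGroup.iff_card.1 (isPGroup.to_subgroup R.hom.ker)
  have hm0 : m ≠ 0 := fun h0 => hne (Subgroup.eq_bot_of_card_eq _ (by rw [hm, h0, pow_zero]))
  obtain ⟨⟨p, hp1⟩, hfix, hp⟩ := (isPGroup.of_equiv (ConjAct.toConjAct (G := Mo n)))
    |>.exists_fixed_point_of_prime_dvd_card_of_fixed_point ↥R.hom.ker
    (hm ▸ dvd_pow_self 2 hm0) (a := 1) (by intro g; exact smul_one g)
  have hc : ∀ q, q * p = p * q := fun q => by
    have := congrArg Subtype.val (hfix (ConjAct.toConjAct q))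
    change ConjAct.toConjAct q • p = p at this
    rw [ConjAct.toConjAct_smul] at this
    exact mul_inv_eq_iff_eq_mul.1 this
  rcases central_cases hn hc with rfl | rfl
  · exact hp rfl
  · exact hz ((R.hom_zz (by omega)).symm.trans hp1)

end Mo

end Cfsg.Agent.Small.GTwoSylow
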