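import Cfsg.Agent.Lib.Small.GTwoSylow.Model
import Cfsg.Agent.Lib.Small.ChevInvol.G2Pair
import Cfsg.Agent.Lib.Small.SL2.Sylow
import Cfsg.Agent.Lib.Small.SelfCent.E7.Twist

/-!
A Sylow two-subgroup of G2 of odd characteristic is the model (Z/2^n)^2 : 2^2.
-/

set_option autoImplicit false

namespace Cfsg.Agent.Small.GTwoSylow

open Cfsg.Lie Cfsg.Agent.Lie Cfsg.Agent.Small.ChevInvol Cfsg.Agent.Small.SL2C
open scoped MatrixGroups

variable {F : Type*} [Field F]

local notation "M2" => Matrix (Fin 2) (Fin 2) F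
local notation "SL2" => Matrix.SpecialLinearGroup (Fin 2) F

theorem sl_involution (h2 : (2 : F) ≠ 0) {Y : SL2} (hY : Y * Y = 1) (h1 : Y ≠ 1) : Y = -1 := by
  have h := congrArg (fun Z : SL2 => Z.1) hY
  simp only [val_mul', sq_eq, Matrix.SpecialLinearGroup.coe_one] at h
  have h' : Y.1.trace • Y.1 = (2 : F) • (1 : M2) := by
    rw [two_smul]; linear_combination (norm := module) h
  have ht : Y.1.trace ≠ 0 := fun h0 => by
    rw [h0, zero_smul, eq_comm, smul_eq_zero] at h'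
    exact h'.elim h2 one_ne_zero
  have hsc : IsSc Y.1 := ⟨Y.1.trace⁻¹ * 2, by rw [← smul_smul, ← h', smul_smul, inv_mul_cancel₀ ht, one_smul]⟩
  rcases isSc_SL hsc with e | e
  · exact absurd (Subtype.ext e) h1
  · exact Subtype.ext (by rw [e]; simp)

/-- Generalised quaternion data of SL2 of odd characteristic. -/
theorem exists_quat [Fintype F] (h2 : (2 : F) ≠ 0) :
    ∃ (n : ℕ) (R J : SL2) (m : ℕ), 2 ≤ n ∧ Odd m ∧ Nat.card SL2 = 2 ^ (n + 1) * m ∧
      R ^ 2 ^ (n - 1) = -1 ∧ J * J = -1 ∧ J * R = R⁻¹ * J := by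
  classical
  obtain ⟨g, ht, h4, m0, hcard, hm0, -⟩ := exists_two_torus (F := F) h2
  have hg := not_isSc_of_trace ht
  haveI := isCyclic_centralizer ht
  obtain ⟨c, hc⟩ := IsCyclic.exists_generator (α := ↥(tor g))
  have hoc : orderOf c = sol g.1.trace 1 := by
    rw [orderOf_eq_card_of_forall_mem_zpowers hc, card_centralizer g hg]
  set s := sol g.1.trace 1 with hs
  have hs0 : s ≠ 0 := by rw [← hoc]; exact (orderOf_pos c).ne'
  obtain ⟨n, o, ho, hso⟩ := Nat.exists_eq_two_pow_mul_odd hs0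
  have hn : 2 ≤ n := by
    by_contra hn
    rw [hso] at h4
    have h' : 4 ∣ 2 ^ n := (Nat.Coprime.pow_left 2 ((Nat.coprime_two_left).2 ho)).dvd_of_dvd_mul_right (show 2 ^ 2 ∣ 2 ^ n * o by norm_num; exact h4)
    have := Nat.le_of_dvd (by positivity) h'
    interval_cases n <;> simp at this
  obtain ⟨J, hJ⟩ := exists_inverter ht
  have hR : orderOf ((c : SL2) ^ o) = 2 ^ n := by
    rw [orderOf_pow, Subgroup.orderOf_coe, hoc, hso, Nat.gcd_eq_right (dvd_mul_left o (2 ^ n)),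
      Nat.mul_div_cancel _ ho.pos]
  refine ⟨n, (c : SL2) ^ o, J, o * m0, hn, ho.mul hm0, by rw [hcard, hso]; ring, ?_, ?_, ?_⟩
  · refine sl_involution h2 ?_ ?_
    · rw [← pow_two, ← pow_mul ((c : SL2) ^ o), ← pow_succ, Nat.sub_add_cancel (by omega : 1 ≤ n), ← hR,
        pow_orderOf_eq_one]
    · refine pow_ne_one_of_lt_orderOf (by positivity) ?_
      rw [hR]; exact Nat.pow_lt_pow_right one_lt_two (by omega)
  · exact Subtype.ext (by rw [val_mul', sq_of_inverter ht hJ]; simp)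
  · exact inverts hg hJ (pow_mem c.2 o)

/-- If minus the identity plus a nilpotent has a power equal to minus one it is minus one times nothing. -/
theorem det_one_add_ne (h2 : (2 : F) ≠ 0) {n : ℕ} (hn : 2 ≤ n) {R : SL2} (hR : R ^ 2 ^ (n - 1) = -1) :
    (1 + R.1).det ≠ 0 := by
  intro h0
  have htr : R.1.trace = -2 := by
    have hd := det_eq' R
    rw [Matrix.det_fin_two] at h0
    simp at h0
    rw [Matrix.trace_fin_two]
    linear_combination h0 - hd
  obtain ⟨N, hN⟩ : ∃ N, N = R.1 + 1 := ⟨_, rfl⟩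
  have hNN : N * N = 0 := by
    rw [hN, Matrix.add_mul, Matrix.mul_add, sq_eq, htr, one_mul, mul_one]
    module
  have hpow : ∀ k : ℕ, R.1 ^ (2 * k) = 1 - (2 * (k : F)) • N := by
    intro k
    induction k with
    | zero => simp
    | succ k ih =>
      have hsq : R.1 * R.1 = 1 - (2 : F) • N := by
        rw [sq_eq, htr, hN]; module
      rw [Nat.mul_succ, pow_add, ih, pow_two, hsq, Matrix.sub_mul, Matrix.one_mul, Matrix.smul_mul, Matrix.mul_sub,
        Matrix.mul_one, Matrix.mul_smul, hNN, smul_zero]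
      push_cast
      module
  have h := congrArg (fun Z : SL2 => Z.1) hR
  simp only [Matrix.SpecialLinearGroup.coe_pow, Matrix.SpecialLinearGroup.coe_neg,
    Matrix.SpecialLinearGroup.coe_one] at h
  rw [show 2 ^ (n - 1) = 2 * 2 ^ (n - 2) by rw [← pow_succ']; congr 1; omega, hpow] at h
  set c : F := 2 * ((2 ^ (n - 2) : ℕ) : F) with hc
  have h3 : (2 : F) • (1 : M2) = c • N := by
    rw [two_smul]; linear_combination (norm := module) h
  have h4 : (2 : F) • N = 0 := by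
    have := congrArg (fun Z : M2 => Z * N) h3
    simpa [Matrix.smul_mul, hNN] using this
  rw [(smul_eq_zero.1 h4).resolve_left h2, smul_zero, smul_eq_zero] at h3
  exact h3.elim h2 one_ne_zero
where
  det_eq' (g : SL2) : g.1 0 0 * g.1 1 1 - g.1 0 1 * g.1 1 0 = 1 := RankOneRel.det_eq g

/-- Conjugation by diag(d, 1). -/
def dconj (d : Fˣ) : SL2 →* SL2 where
  toFun A := ⟨!![A.1 0 0, (d : F) * A.1 0 1; ((d⁻¹ : Fˣ) : F) * A.1 1 0, A.1 1 1], by
    rw [Matrix.det_fin_two_of, mul_mul_mul_comm, ← Units.val_mul, mul_inv_cancel, Units.val_one, one_mul]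
    exact RankOneRel.det_eq A⟩
  map_one' := by
    refine Subtype.ext ?_
    ext i j; fin_cases i <;> fin_cases j <;> simp
  map_mul' A B := by
    refine Subtype.ext ?_
    show !![(A * B).1 0 0, (d : F) * (A * B).1 0 1; ((d⁻¹ : Fˣ) : F) * (A * B).1 1 0, (A * B).1 1 1] =
      !![A.1 0 0, (d : F) * A.1 0 1; ((d⁻¹ : Fˣ) : F) * A.1 1 0, A.1 1 1] *
        !![B.1 0 0, (d : F) * B.1 0 1; ((d⁻¹ : Fˣ) : F) * B.1 1 0, B.1 1 1]
    ext i j
    fin_cases i <;> fin_cases j <;> simp [RankOneRel.entries_mul, Matrix.mul_apply, Fin.sum_univ_two] <;> field_simp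

theorem dconj_val (d : Fˣ) (A : SL2) : (dconj d A).1 =
    !![A.1 0 0, (d : F) * A.1 0 1; ((d⁻¹ : Fˣ) : F) * A.1 1 0, A.1 1 1] := rfl

theorem dconj_up (d : Fˣ) (t : F) : dconj d (upS t) = upS ((d : F) * t) := by
  refine Subtype.ext ?_
  ext i j; fin_cases i <;> fin_cases j <;> simp [dconj_val, RankOneRel.upS_val]

theorem dconj_lo (d : Fˣ) (t : F) : dconj d (loS t) = loS (((d⁻¹ : Fˣ) : F) * t) := by
  refine Subtype.ext ?_
  ext i j; fin_cases i <;> fin_cases j <;> simp [dconj_val, RankOneRel.loS_val]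

/-- diag(d, 1/d). -/
def dd (d : Fˣ) : SL2 := ⟨!![(d : F), 0; 0, (d : F)⁻¹], by rw [Matrix.det_fin_two_of]; simp⟩

/-- The matrix 1 + R divided by diag(d, 1). -/
def bS (R : SL2) (d : Fˣ) (hd : (d : F) = (1 + R.1).det) : SL2 :=
  ⟨(1 + R.1) * !![((d⁻¹ : Fˣ) : F), 0; 0, 1], by
    rw [Matrix.det_mul, Matrix.det_fin_two_of, ← hd, mul_zero, sub_zero, mul_one, ← Units.val_mul,
      mul_inv_cancel, Units.val_one]⟩

theorem bS_dconj (R : SL2) (d : Fˣ) (hd : (d : F) = (1 + R.1).det) {A C : SL2}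
    (h : (1 + R.1) * A.1 = C.1 * (1 + R.1)) : bS R d hd * dconj d A * (bS R d hd)⁻¹ = C := by
  rw [mul_inv_eq_iff_eq_mul]
  refine Subtype.ext ?_
  rw [val_mul', val_mul']
  show (1 + R.1) * !![((d⁻¹ : Fˣ) : F), 0; 0, 1] * (dconj d A).1 = C.1 * ((1 + R.1) * !![((d⁻¹ : Fˣ) : F), 0; 0, 1])
  rw [← mul_assoc, ← h, mul_assoc, mul_assoc]
  congr 1
  ext i j
  fin_cases i <;> fin_cases j <;> simp [dconj_val, Matrix.mul_apply, Fin.sum_univ_two] <;> ring

theorem bS_sq (R : SL2) (d : Fˣ) (hd : (d : F) = (1 + R.1).det) :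
    bS R d hd * dconj d (bS R d hd) * dd d = R := by
  refine Subtype.ext ?_
  rw [val_mul', val_mul']
  have hB : (1 + R.1) * (1 + R.1) = (d : F) • R.1 := by
    have ht : (d : F) = 2 + R.1.trace := by
      have := RankOneRel.det_eq R
      rw [hd, Matrix.det_fin_two, Matrix.trace_fin_two]
      simp
      linear_combination this
    simp only [Matrix.add_mul, Matrix.mul_add, Matrix.one_mul, Matrix.mul_one, sq_eq]
    rw [ht]
    module
  have e : !![((d⁻¹ : Fˣ) : F), 0; 0, 1] * (dconj d (bS R d hd)).1 * (dd d).1 =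
      (d : F)⁻¹ • (1 + R.1) := by
    rw [dconj_val]
    ext i j
    fin_cases i <;> fin_cases j <;> simp [dconj_val, dd, bS, Matrix.mul_apply, Fin.sum_univ_two] <;> field_simp
  show (1 + R.1) * !![((d⁻¹ : Fˣ) : F), 0; 0, 1] * (dconj d (bS R d hd)).1 * (dd d).1 = R.1
  rw [mul_assoc (1 + R.1), mul_assoc (1 + R.1), e, Matrix.mul_smul, hB, smul_smul, inv_mul_cancel₀ d.ne_zero,
    one_smul]

theorem g2_cartan : chevG2.simple 1 = 6 ∧ chevG2.neg (chevG2.simple 0) = 4 ∧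
    chevG2.cartan 0 7 = 2 ∧ chevG2.cartan 1 7 = -1 ∧ chevG2.cartan 0 4 = -2 ∧ chevG2.cartan 1 4 = 1 ∧
    chevG2.cartan 0 6 = -3 ∧ chevG2.cartan 1 6 = 2 ∧
    chevG2.cartan 0 11 = 0 ∧ chevG2.cartan 1 11 = 1 ∧ chevG2.cartan 0 0 = 0 ∧ chevG2.cartan 1 0 = -1 := by
  decide +kernel

theorem torChar_g2 (c : Fin chevG2.rank → Fˣ) (s : ℕ) :
    torChar chevG2 c s = c g2i ^ chevG2.cartan 0 s * c g2j ^ chevG2.cartan 1 s := by
  rw [torChar]
  exact Fin.prod_univ_two (fun i : Fin 2 => c i ^ chevG2.cartan i.val s)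

theorem commute_pair (a b : SL2) : Commute (phi factsG2 g2i a)
    ((factsG2.tsys F).nw g2w * phi factsG2 g2j b * ((factsG2.tsys F).nw g2w)⁻¹) := by
  obtain ⟨e7, e4, e11, e0, c1, c2, c3, c4, n4, hwd, hN⟩ := g2_roots
  set N := (factsG2.tsys F).nw g2w with hNdef
  have hmem : ∀ (k : Fin chevG2.rank) (x : Matrix.SpecialLinearGroup (Fin 2) F),
      phi factsG2 k x ∈ Subgroup.closure
        (Set.range (factsG2.xg (F := F) (chevG2.simple k.val)) ∪
          Set.range (factsG2.xg (chevG2.neg (chevG2.simple k.val)))) := fun k x => by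
    have h : phi factsG2 k x ∈ (phi (F := F) factsG2 k).range := ⟨x, rfl⟩
    rwa [phi, RankOneRel.hom_range] at h
  have hB : ∀ y ∈ Set.range (factsG2.xg (F := F) (chevG2.simple g2j.val)) ∪
      Set.range (factsG2.xg (chevG2.neg (chevG2.simple g2j.val))),
      N * y * N⁻¹ ∈ Set.range (factsG2.xg (F := F) 11) ∪ Set.range (factsG2.xg 0) := by
    have him : ∀ x : Fin chevG2.nroots, (factsG2.refSys.pr g2w • x : Fin chevG2.nroots).val =
        imgW certG2.cR [1, 0] x.val := fun x => imgW_spec factsG2 fastTabG2.refl g2w x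
    rintro y (⟨v, rfl⟩ | ⟨v, rfl⟩)
    · obtain ⟨e, -, he⟩ := (factsG2.tsys F).nw_conj g2w ⟨_, factsG2.simple_lt 1 g2j.isLt⟩
      refine Or.inl ⟨e * v, ?_⟩
      rw [← e11, ← him ⟨_, factsG2.simple_lt 1 g2j.isLt⟩]
      exact (he v).symm
    · obtain ⟨e, -, he⟩ := (factsG2.tsys F).nw_conj g2w ⟨_, factsG2.neg_lt (factsG2.simple_lt 1 g2j.isLt)⟩
      refine Or.inr ⟨e * v, ?_⟩
      rw [← e0, ← him ⟨_, factsG2.neg_lt (factsG2.simple_lt 1 g2j.isLt)⟩]
      exact (he v).symm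
  have hclo : N * phi factsG2 g2j b * N⁻¹ ∈
      Subgroup.closure (Set.range (factsG2.xg (F := F) 11) ∪ Set.range (factsG2.xg 0)) := by
    have h := Subgroup.mem_map_of_mem (MulAut.conj N).toMonoidHom (hmem g2j b)
    rw [MonoidHom.map_closure] at h
    refine Subgroup.closure_mono ?_ h
    rintro _ ⟨y, hy, rfl⟩
    exact hB y hy
  refine commute_closure (fun x hx y hy => ?_) _ (hmem g2i a) _ hclo
  have hx' : ∃ s, (s = 7 ∨ s = 4) ∧ ∃ v : F, factsG2.xg s v = x := by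
    rcases hx with ⟨v, rfl⟩ | ⟨v, rfl⟩
    · exact ⟨_, Or.inl e7, v, rfl⟩
    · exact ⟨_, Or.inr (show chevG2.neg (chevG2.simple 0) = 4 by rw [e7, e4]), v, rfl⟩
  have hy' : ∃ s, (s = 11 ∨ s = 0) ∧ ∃ v : F, factsG2.xg s v = y := by
    rcases hy with ⟨v, rfl⟩ | ⟨v, rfl⟩
    exacts [⟨_, Or.inl rfl, v, rfl⟩, ⟨_, Or.inr rfl, v, rfl⟩]
  obtain ⟨s, hs, v, rfl⟩ := hx'
  obtain ⟨s', hs', v', rfl⟩ := hy'
  refine (x_comm_of_empty factsG2 (by rw [hN]; rcases hs with rfl | rfl <;> norm_num)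
    (by rw [hN]; rcases hs' with rfl | rfl <;> norm_num) ?_ ?_ ?_ v v').symm
  · rcases hs with rfl | rfl <;> rcases hs' with rfl | rfl <;> norm_num
  · rcases hs with rfl | rfl <;> rcases hs' with rfl | rfl <;> simp [e4, n4]
  · rcases hs with rfl | rfl <;> rcases hs' with rfl | rfl <;> assumption

variable [Fintype F]

/-- The relations inside G2. -/
theorem exists_rel (h2 : (2 : F) ≠ 0) :
    ∃ (n m : ℕ) (h k u w t : chevG2.group F), 2 ≤ n ∧ Odd m ∧ Nat.card SL2 = 2 ^ (n + 1) * m ∧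
      Mo.Rel n h k u w ∧ orderOf t = 2 ∧ h ^ 2 ^ (n - 1) * k ^ 2 ^ (n - 1) = t := by
  classical
  obtain ⟨n, R, J, m, hn, hm, hcard, hR, hJ, hJR⟩ := exists_quat (F := F) h2
  have hinj := torusInj_of_cert (F := F) factsG2 kerCertG2
  obtain ⟨r, hr, hrv⟩ := exists_sv_elt factsG2 hinj h2 (okTable_length okOrbitG2A) rfl
  obtain ⟨hs1, hn0, c07, c17, c04, c14, c06, c16, c011, c111, c00, c10⟩ := g2_cartan
  obtain ⟨e7, e4, e11, e0, k1, k2, k3, k4, n4, hwd, hN⟩ := g2_roots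
  set T := factsG2.tsys F with hT
  set N := T.nw g2w with hNdef
  have hnw : N ∈ chevG2.group F := by
    refine factsG2.monomial_le_group ?_
    rw [← factsG2.tsys_N]
    exact T.nw_mem_N _
  obtain ⟨δ, hδ⟩ : ∃ δ : Fˣ, (δ : F) = (1 + R.1).det := ⟨Units.mk0 _ (det_one_add_ne h2 hn hR), rfl⟩
  let ec : Fin chevG2.rank → Fˣ := fun _ => δ
  have hec : torus chevG2 F ec ∈ chevG2.group F :=
    inN_group factsG2 (inN_of_H factsG2 (torus_mem_H factsG2 _))
  let e : chevG2.group F := ⟨_, hec⟩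
  let ψ : SL2 →* chevG2.group F := (phi factsG2 g2i).codRestrict _ (phi_mem factsG2 g2i)
  let nn : chevG2.group F := ⟨_, hnw⟩
  let χ : SL2 →* chevG2.group F :=
    (MulAut.conj nn).toMonoidHom.comp ((phi factsG2 g2j).codRestrict _ (phi_mem factsG2 g2j))
  have hφu : ∀ (i : Fin chevG2.rank) (v : F), phi factsG2 i (upS v) = factsG2.xg (chevG2.simple i.val) v :=
    fun i v => RankOneRel.hom_up _ v
  have hφl : ∀ (i : Fin chevG2.rank) (v : F),
      phi factsG2 i (loS v) = factsG2.xg (chevG2.neg (chevG2.simple i.val)) v :=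
    fun i v => RankOneRel.hom_lo _ v
  have him : ∀ x : Fin chevG2.nroots, (factsG2.refSys.pr g2w • x : Fin chevG2.nroots).val =
      imgW certG2.cR [1, 0] x.val := fun x => imgW_spec factsG2 fastTabG2.refl g2w x
  obtain ⟨ε, -, hε⟩ := T.nw_conj g2w ⟨_, factsG2.simple_lt 1 g2j.isLt⟩
  obtain ⟨η, -, hη⟩ := T.nw_conj g2w ⟨_, factsG2.neg_lt (factsG2.simple_lt 1 g2j.isLt)⟩
  rw [him] at hε hη
  simp only at hε hη
  rw [e11] at hε
  rw [e0] at hη
  replace hε : ∀ v, N * factsG2.xg (chevG2.simple g2j.val) v * N⁻¹ = factsG2.xg 11 (ε * v) := hε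
  replace hη : ∀ v, N * factsG2.xg (chevG2.neg (chevG2.simple g2j.val)) v * N⁻¹ = factsG2.xg 0 (η * v) := hη
  have h7 : torChar chevG2 ec 7 = δ := by rw [torChar_g2, c07, c17]; simp [ec, pow_two]
  have h4 : torChar chevG2 ec 4 = δ⁻¹ := by rw [torChar_g2, c04, c14]; simp [ec, pow_two]
  have h11 : torChar chevG2 ec 11 = δ := by rw [torChar_g2, c011, c111]; simp [ec]
  have h0 : torChar chevG2 ec 0 = δ⁻¹ := by rw [torChar_g2, c00, c10]; simp [ec]
  -- the torus element acts as diag(δ, 1) on both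
  have hgen : ∀ (f g : SL2 →* chevG2.group F), (∀ v, f (upS v) = g (upS v)) → (∀ v, f (loS v) = g (loS v)) →
      ∀ A, f A = g A := fun f g hu hl A => by
    have hle : (⊤ : Subgroup SL2) ≤ f.eqLocus g := by
      rw [← Cfsg.Agent.Small.SelfCent.E7.closure_up_lo, Subgroup.closure_le]
      rintro _ (⟨v, rfl⟩ | ⟨v, rfl⟩)
      exacts [hu v, hl v]
    exact hle (Subgroup.mem_top A)
  have heψ : ∀ A, e * ψ A * e⁻¹ = ψ (dconj δ A) := by
    refine hgen ((MulAut.conj e).toMonoidHom.comp ψ) (ψ.comp (dconj δ)) (fun v => ?_) (fun v => ?_) <;>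
      refine Subtype.ext ?_
    · show torus chevG2 F ec * phi factsG2 g2i (upS v) * (torus chevG2 F ec)⁻¹ = phi factsG2 g2i (dconj δ (upS v))
      rw [dconj_up, hφu, hφu, show g2i.val = 0 from rfl, e7, factsG2.torus_conj ec (by rw [hN]; norm_num), h7]
    · show torus chevG2 F ec * phi factsG2 g2i (loS v) * (torus chevG2 F ec)⁻¹ = phi factsG2 g2i (dconj δ (loS v))
      rw [dconj_lo, hφl, hφl, show g2i.val = 0 from rfl, hn0, factsG2.torus_conj ec (by rw [hN]; norm_num), h4]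
  have heχ : ∀ A, e * χ A * e⁻¹ = χ (dconj δ A) := by
    refine hgen ((MulAut.conj e).toMonoidHom.comp χ) (χ.comp (dconj δ)) (fun v => ?_) (fun v => ?_) <;>
      refine Subtype.ext ?_
    · show torus chevG2 F ec * (N * phi factsG2 g2j (upS v) * N⁻¹) * (torus chevG2 F ec)⁻¹ =
        N * phi factsG2 g2j (dconj δ (upS v)) * N⁻¹
      rw [dconj_up, hφu, hφu, hε, hε, factsG2.torus_conj ec (by rw [hN]; norm_num), h11]
      congr 1; ring
    · show torus chevG2 F ec * (N * phi factsG2 g2j (loS v) * N⁻¹) * (torus chevG2 F ec)⁻¹ =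
        N * phi factsG2 g2j (dconj δ (loS v)) * N⁻¹
      rw [dconj_lo, hφl, hφl, hη, hη, factsG2.torus_conj ec (by rw [hN]; norm_num), h0]
      congr 1; ring
  -- the two rank one subgroups commute
  have hcom : ∀ A B, Commute (ψ A) (χ B) := fun A B => Subtype.ext (commute_pair A B).eq
  have hψt : ψ (-1) = r := by
    refine Subtype.ext ?_
    show phi factsG2 g2i (-1) = _
    rw [phi_neg_one, hrv]
    congr 1
    funext m
    fin_cases m <;> simp [sv, g2i, dataG2A, Pi.mulSingle_apply, Fin.ext_iff]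
  have hχt : χ (-1) = r := by
    refine Subtype.ext ?_
    show N * phi factsG2 g2j (-1) * N⁻¹ = _
    rw [phi_neg_one, hrv, show (Pi.mulSingle g2j (-1) : Fin chevG2.rank → Fˣ) = sv chevG2 F [false, true] from ?_,
      (nw_sv factsG2 rfl g2w).1]
    · exact congrArg (fun b => torus chevG2 F (sv chevG2 F b)) hwd
    · funext m
      fin_cases m <;> simp [sv, g2j, Pi.mulSingle_apply, Fin.ext_iff]
  have hee : e * e = ψ (dd δ) * χ (dd δ) := by
    refine Subtype.ext ?_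
    show torus chevG2 F ec * torus chevG2 F ec = phi factsG2 g2i (dd δ) * (N * phi factsG2 g2j (dd δ) * N⁻¹)
    rw [phi_diag factsG2 g2i (z := dd δ) rfl, phi_diag factsG2 g2j (z := dd δ) rfl, ← factsG2.torus_single g2i δ,
      ← factsG2.torus_single g2j δ]
    have hNc : N * torus chevG2 F (Pi.mulSingle g2j δ) * N⁻¹ =
        torus chevG2 F (reflT g2j (reflT g2i (Pi.mulSingle g2j δ))) := by
      rw [hNdef, show T.nw g2w = T.nS g2j * T.nS g2i by rw [g2w, TorusSys.nw_cons, TorusSys.nw_singleton],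
        ← nS_torus factsG2, ← nS_torus factsG2]
      group
      rfl
    rw [hNc, ← map_mul, ← map_mul]
    congr 1
    have hi : reflT g2i (Pi.mulSingle g2j δ) = ec := by
      funext x
      simp only [reflT, Pi.mul_apply, show g2i.val = 0 from rfl, e7, torChar_g2, c07, c17]
      fin_cases x <;> simp [g2i, g2j, ec, Pi.mulSingle_apply, Fin.ext_iff]
    rw [hi]
    funext x
    simp only [reflT, Pi.mul_apply, show g2j.val = 1 from rfl, hs1, torChar_g2, c06, c16]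
    fin_cases x <;> simp [g2i, g2j, ec, Pi.mulSingle_apply, Fin.ext_iff] <;> group
  -- the elements
  set Δ := R ^ 2 ^ (n - 2) with hΔ
  have hΔΔ : Δ * Δ = -1 := by
    rw [hΔ, ← pow_add, ← two_mul, ← pow_succ', show n - 2 + 1 = n - 1 by omega, hR]
  have hΔR : Commute Δ R := (Commute.refl R).pow_left _
  have hJi : J⁻¹ = -J := inv_eq_of_mul_eq_one_right (by rw [mul_neg, hJ, neg_neg])
  have hΔi : Δ⁻¹ = -Δ := inv_eq_of_mul_eq_one_right (by rw [mul_neg, hΔΔ, neg_neg])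
  have hJΔ : J * Δ = Δ⁻¹ * J := by
    rw [hΔ, ← inv_pow]
    exact (show SemiconjBy J R R⁻¹ from hJR).pow_right _
  have hJΔ' : J * Δ = -(Δ * J) := by rw [hJΔ, hΔi, neg_mul]
  obtain ⟨JD, hJD⟩ : ∃ x, x = J * Δ := ⟨_, rfl⟩
  have hJDJD : JD * JD = -1 := by
    rw [hJD]
    nth_rewrite 2 [hJΔ]
    rw [mul_assoc J, ← mul_assoc Δ, mul_inv_cancel, one_mul, hJ]
  set S0 := bS R δ hδ
  set k : chevG2.group F := ψ S0 * χ S0 * e with hk
  set u := ψ J * χ JD with hu
  set w := ψ Δ * χ J with hw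
  set R1 := ψ R with hR1
  set R2 := χ R with hR2
  have hkψ : ∀ {A C : SL2}, (1 + R.1) * A.1 = C.1 * (1 + R.1) → k * ψ A * k⁻¹ = ψ C := fun {A C} h => by
    calc k * ψ A * k⁻¹ = ψ S0 * (χ S0 * (e * ψ A * e⁻¹) * (χ S0)⁻¹) * (ψ S0)⁻¹ := by rw [hk]; group
      _ = ψ (S0 * dconj δ A * S0⁻¹) := by
        rw [heψ, (hcom _ _).symm.eq, mul_inv_cancel_right, map_mul, map_mul, map_inv]
      _ = ψ C := by rw [bS_dconj R δ hδ h]
  have hkχ : ∀ {A C : SL2}, (1 + R.1) * A.1 = C.1 * (1 + R.1) → k * χ A * k⁻¹ = χ C := fun {A C} h => by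
    calc k * χ A * k⁻¹ = ψ S0 * (χ S0 * (e * χ A * e⁻¹) * (χ S0)⁻¹) * (ψ S0)⁻¹ := by rw [hk]; group
      _ = χ (S0 * dconj δ A * S0⁻¹) := by
        rw [heχ, ← map_inv χ, ← map_mul, ← map_mul, (hcom S0 _).eq, mul_inv_cancel_right]
      _ = χ C := by rw [bS_dconj R δ hδ h]
  have hk2 : k * k = R1 * R2 := by
    calc k * k = ψ S0 * χ S0 * ((e * ψ S0 * e⁻¹) * (e * χ S0 * e⁻¹)) * (e * e) := by rw [hk]; group
      _ = ψ S0 * χ S0 * (ψ (dconj δ S0) * χ (dconj δ S0)) * (ψ (dd δ) * χ (dd δ)) := by rw [heψ, heχ, hee]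
      _ = ψ (S0 * dconj δ S0 * dd δ) * χ (S0 * dconj δ S0 * dd δ) := by
        rw [(hcom _ _).symm.mul_mul_mul_comm, ← map_mul, ← map_mul, (hcom _ _).symm.mul_mul_mul_comm,
          ← map_mul, ← map_mul]
      _ = R1 * R2 := by rw [bS_sq R δ hδ]
  have hcR : (1 + R.1) * R.1 = R.1 * (1 + R.1) := by rw [Matrix.add_mul, Matrix.mul_add, one_mul, mul_one]
  have hcΔ : (1 + R.1) * Δ.1 = Δ.1 * (1 + R.1) := by
    rw [Matrix.add_mul, Matrix.mul_add, one_mul, mul_one]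
    exact congrArg (fun Z => Δ.1 + Z) (congrArg (fun Z : SL2 => Z.1) hΔR.eq.symm)
  have hRJR : R * J * R = J := by rw [mul_assoc, hJR, mul_inv_cancel_left]
  have hcJ : (1 + R.1) * J.1 = (R * J).1 * (1 + R.1) := by
    rw [val_mul', Matrix.add_mul, Matrix.mul_add, one_mul, mul_one,
      show R.1 * J.1 * R.1 = J.1 from congrArg (fun Z : SL2 => Z.1) hRJR, add_comm]
  have hcJD : (1 + R.1) * JD.1 = (R * JD).1 * (1 + R.1) := by
    rw [hJD, val_mul', ← mul_assoc, hcJ, mul_assoc, hcΔ]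
    simp only [val_mul', mul_assoc]
  -- relations
  have hψ1 : ∀ A B : SL2, ψ A * χ B * (ψ A * χ B) = ψ (A * A) * χ (B * B) := fun A B => by
    rw [(hcom _ _).symm.mul_mul_mul_comm, ← map_mul, ← map_mul]
  have hrr : r * r = 1 := by rw [← pow_two, ← hr, pow_orderOf_eq_one]
  have huu : u * u = 1 := by rw [hu, hψ1, hJ, hJDJD, hψt, hχt, hrr]
  have hww : w * w = 1 := by rw [hw, hψ1, hΔΔ, hJ, hψt, hχt, hrr]
  have huw : Commute u w := by
    show u * w = w * u
    rw [hu, hw, (hcom _ _).symm.mul_mul_mul_comm, (hcom _ _).symm.mul_mul_mul_comm, ← map_mul, ← map_mul,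
      ← map_mul, ← map_mul]
    have a1 : J * Δ = -1 * (Δ * J) := by rw [hJΔ', neg_one_mul]
    have a2 : J * JD = -1 * (JD * J) := by
      rw [hJD, mul_assoc J Δ J]
      nth_rewrite 1 [hJΔ']
      rw [mul_neg, neg_one_mul]
    rw [show JD * J = -1 * (J * JD) by rw [a2, ← mul_assoc, neg_mul_neg, one_mul, one_mul], a1]
    have hrc : Commute (ψ (Δ * J)) r := hχt ▸ hcom (Δ * J) (-1)
    conv_lhs => rw [map_mul ψ, map_mul χ, hψt, hχt, hrc.symm.symm.mul_mul_mul_comm, hrr, one_mul]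
  have hkuk : k * u * k⁻¹ = R1 * R2 * u := by
    rw [hu, show k * (ψ J * χ JD) * k⁻¹ = (k * ψ J * k⁻¹) * (k * χ JD * k⁻¹) by group, hkψ hcJ, hkχ hcJD,
      map_mul, map_mul, (hcom _ _).mul_mul_mul_comm]
  have huk : u * k * u⁻¹ = k⁻¹ := by
    rw [← hk2] at hkuk
    rw [mul_inv_eq_iff_eq_mul]
    calc u * k = k⁻¹ * k⁻¹ * (k * k * u) * k := by group
      _ = k⁻¹ * u := by rw [← hkuk]; group
  have hkwk : k * w * k⁻¹ = R2 * w := by
    rw [hw, show k * (ψ Δ * χ J) * k⁻¹ = (k * ψ Δ * k⁻¹) * (k * χ J * k⁻¹) by group, hkψ hcΔ, hkχ hcJ,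
      map_mul, ← mul_assoc, (hcom _ _).eq, mul_assoc]
  have hwi : w⁻¹ = w := inv_eq_of_mul_eq_one_right hww
  have hwk : w * k * w⁻¹ = R2⁻¹ * k := by
    calc w * k * w⁻¹ = R2⁻¹ * (R2 * w) * k * w⁻¹ := by group
      _ = R2⁻¹ * k * (w * w⁻¹) := by rw [← hkwk]; group
      _ = _ := by rw [mul_inv_cancel, mul_one]
  have hkR2 : Commute k R2 := mul_inv_eq_iff_eq_mul.1 (hkχ hcR)
  set h := R2⁻¹ * k with hh
  have hhk : Commute h k := (hkR2.inv_right.symm).mul_left (Commute.refl k)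
  have hR12 : (R1 * R2) ^ 2 ^ (n - 1) = 1 := by
    rw [(hcom R R).mul_pow, ← map_pow, ← map_pow, hR, hψt, hχt, hrr]
  have hkk : k ^ 2 ^ n = 1 := by
    rw [show 2 ^ n = 2 * 2 ^ (n - 1) by rw [← pow_succ']; congr 1; omega, pow_mul, pow_two, hk2, hR12]
  have hhh : h ^ 2 ^ n = 1 := by rw [← hwk, conj_pow, hkk, mul_one, mul_inv_cancel]
  have hwh : w * h * w⁻¹ = k := by
    rw [← hwk, hwi, show w * (w * k * w) * w = w * w * k * (w * w) by group, hww, one_mul, mul_one]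
  have huh : u * h * u⁻¹ = h⁻¹ := by
    rw [← hwk, show u * (w * k * w⁻¹) * u⁻¹ = (u * w) * k * (u * w)⁻¹ by group, huw.eq,
      show w * u * k * (w * u)⁻¹ = w * (u * k * u⁻¹) * w⁻¹ by group, huk]
    group
  refine ⟨n, m, h, k, u, w, r, hn, hm, hcard, ⟨hhh, hkk, hhk, huu, hww, huw, huh, huk, hwh, hwk⟩, hr, ?_⟩
  rw [← hhk.mul_pow, hh, mul_assoc, hk2, (hcom R R).eq, inv_mul_cancel_left, ← map_pow, hR, hψt]

/-- A Sylow two-subgroup of G2 of odd characteristic. -/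
theorem exists_model (hq : Odd (Fintype.card F)) (P : Sylow 2 (chevG2.group F)) :
    ∃ n, 2 ≤ n ∧ Nonempty (Mo n ≃* ↥(P : Subgroup (chevG2.group F))) := by
  classical
  haveI : Fact (Nat.Prime 2) := ⟨Nat.prime_two⟩
  have h2 := two_ne_zero_of_odd hq
  obtain ⟨n, m, h, k, u, w, t, hn, hm, hcard, R, ht, hzt⟩ := exists_rel (F := F) h2
  have hinj : Function.Injective R.hom := R.hom_injective hn (by
    rw [hzt]; exact fun h0 => by rw [h0, orderOf_one] at ht; omega)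
  have hp : IsPGroup 2 R.hom.range := Mo.isPGroup.of_surjective _ R.hom.rangeRestrict_surjective
  obtain ⟨Q, hQ⟩ := hp.exists_le_sylow
  have hcR : Nat.card R.hom.range = 2 ^ (2 * n + 2) := by
    rw [← Nat.card_congr (MonoidHom.ofInjective hinj).toEquiv, Mo.card_mo]
  have hQeq : R.hom.range = (Q : Subgroup (chevG2.group F)) := by
    by_contra hne
    have hlt : R.hom.range.subgroupOf Q < ⊤ := lt_top_iff_ne_top.2 fun h' =>
      hne (le_antisymm hQ (Subgroup.subgroupOf_eq_top.1 h'))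
    haveI : Group.IsNilpotent ↥(Q : Subgroup (chevG2.group F)) := Q.isPGroup'.isNilpotent
    obtain ⟨g, hg, hgP⟩ := SetLike.exists_of_lt (Group.normalizerCondition_of_isNilpotent _ hlt)
    have hgn : ∀ x ∈ R.hom.range, g.1 * x * g.1⁻¹ ∈ R.hom.range := fun x hx =>
      (Subgroup.mem_normalizer_iff.1 hg ⟨x, hQ hx⟩).1 hx
    have hgn' : ∀ x ∈ R.hom.range, g.1⁻¹ * x * g.1 ∈ R.hom.range := fun x hx =>
      (Subgroup.mem_normalizer_iff''.1 hg ⟨x, hQ hx⟩).1 hx
    have hz : R.hom (Mo.zz n) = t := (R.hom_zz (by omega)).trans hzt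
    have ht1 : t ≠ 1 := fun h0 => by rw [h0, orderOf_one] at ht; omega
    obtain ⟨p, hp'⟩ := hgn t ⟨_, hz⟩
    have hzc : ∀ q : Mo n, q * Mo.zz n = Mo.zz n * q := fun q => by
      obtain ⟨a, b, i, j⟩ := q
      have hneg := Mo.neg_hf (n := n) (by omega)
      cases i <;> cases j <;> simp [Mo.mul_def, Mo.zz, Mo.sg, hneg, add_comm]
    have hpc : ∀ q, q * p = p * q := fun q => by
      refine hinj ?_
      obtain ⟨q', hq'⟩ := hgn' (R.hom q) ⟨q, rfl⟩
      have hct : R.hom q' * t = t * R.hom q' := by rw [← hz, ← map_mul, ← map_mul, hzc]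
      rw [map_mul, map_mul, hp', show R.hom q = g.1 * R.hom q' * g.1⁻¹ by rw [hq']; group,
        show g.1 * R.hom q' * g.1⁻¹ * (g.1 * t * g.1⁻¹) = g.1 * (R.hom q' * t) * g.1⁻¹ by group, hct]
      group
    have hgt : g.1 * t = t * g.1 := by
      rcases Mo.central_cases hn hpc with rfl | rfl
      · rw [map_one, eq_comm, mul_inv_eq_one, mul_eq_left] at hp'
        exact absurd hp' ht1
      · rw [hz, eq_comm, mul_inv_eq_iff_eq_mul] at hp'
        exact hp'
    have hC := (exists_pair hq t ht).1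
    set C := Subgroup.centralizer ({t} : Set (chevG2.group F)) with hCdef
    have hle : R.hom.range ≤ C ⊓ (Q : Subgroup (chevG2.group F)) := by
      refine le_inf ?_ hQ
      rintro _ ⟨q, rfl⟩
      rw [Subgroup.mem_centralizer_singleton_iff, ← hz, ← map_mul, ← map_mul, hzc]
    have hlt' : R.hom.range < C ⊓ (Q : Subgroup (chevG2.group F)) :=
      lt_of_le_of_ne hle fun h' => hgP (h' ▸ ⟨Subgroup.mem_centralizer_singleton_iff.2 hgt, g.2⟩ :
        g.1 ∈ R.hom.range)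
    obtain ⟨a, ha⟩ := IsPGroup.iff_card.1 (Q.isPGroup'.to_le (inf_le_right : C ⊓ (Q : Subgroup _) ≤ Q))
    have hd : Nat.card ↥(C ⊓ (Q : Subgroup (chevG2.group F))) ∣ Nat.card C := Subgroup.card_dvd_of_le inf_le_left
    have hlt2 : Nat.card R.hom.range < Nat.card ↥(C ⊓ (Q : Subgroup (chevG2.group F))) :=
      (Subgroup.card_le_of_le hle).lt_of_ne fun h' => hlt'.ne (Subgroup.eq_of_le_of_card_ge hle h'.ge)
    rw [ha, hC, show Fintype.card F ^ 2 * (Fintype.card F ^ 2 - 1) ^ 2 =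
      (Fintype.card F * (Fintype.card F ^ 2 - 1)) ^ 2 by rw [mul_pow], ← card_SL2, hcard, mul_pow, ← pow_mul,
      show (n + 1) * 2 = 2 * n + 2 by ring] at hd
    rw [ha, hcR] at hlt2
    have hd' := (Nat.Coprime.pow_left a ((Nat.coprime_two_left).2 hm.pow)).dvd_of_dvd_mul_right hd
    exact absurd (Nat.le_of_dvd (by positivity) hd') (not_le.2 hlt2)
  exact ⟨n, hn, ⟨((MonoidHom.ofInjective hinj).trans (MulEquiv.subgroupCongr hQeq)).trans (Sylow.equiv Q P)⟩⟩

end Cfsg.Agent.Small.GTwoSylow
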